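import Cfsg.Agent.Lib.CosetEnum.Fi23Trans.Data

/-! Kernel checks on a range of points. -/

set_option autoImplicit false
set_option maxRecDepth 20000

namespace Cfsg.Lib.CosetEnum.Fi23Trans

theorem conj24 : conjOK Fi23Fi22.tabP Fi23Centre.tabT 10 word 0 700 16800 = true := by decide +kernel

theorem conj25 : conjOK Fi23Fi22.tabP Fi23Centre.tabT 10 word 0 700 17500 = true := by decide +kernel

theorem conj26 : conjOK Fi23Fi22.tabP Fi23Centre.tabT 10 word 0 700 18200 = true := by decide +kernel

theorem conj27 : conjOK Fi23Fi22.tabP Fi23Centre.tabT 10 word 0 700 18900 = true := by decide +kernel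

theorem conj28 : conjOK Fi23Fi22.tabP Fi23Centre.tabT 10 word 0 700 19600 = true := by decide +kernel

theorem conj29 : conjOK Fi23Fi22.tabP Fi23Centre.tabT 10 word 0 700 20300 = true := by decide +kernel

end Cfsg.Lib.CosetEnum.Fi23Trans
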