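import Cfsg.Agent.Lib.CosetEnum.Fi23Trans.Part0
import Cfsg.Agent.Lib.CosetEnum.Fi23Trans.Part1
import Cfsg.Agent.Lib.CosetEnum.Fi23Trans.Part2
import Cfsg.Agent.Lib.CosetEnum.Fi23Trans.Part3
import Cfsg.Agent.Lib.CosetEnum.Fi23Trans.Part4
import Cfsg.Agent.Lib.CosetEnum.Fi23Trans.Part5
import Cfsg.Agent.Lib.CosetEnum.Fi23Trans.Part6
import Cfsg.Agent.Lib.CosetEnum.Fi23Trans.Part7

/-! The check on all points. -/

set_option autoImplicit false

namespace Cfsg.Lib.CosetEnum.Fi23Trans

theorem conj_get (i : Nat) (hi : i < 31671) :
    twalk Fi23Fi22.tabP 10 word (Fi23Centre.tabT.getP i) =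
      img Fi23Fi22.tabP 10 0 (twalk Fi23Fi22.tabP 10 word i) := by
  by_cases h0 : i < 700
  · exact conjOK_get conj0 i (by omega) (by omega)
  by_cases h1 : i < 1400
  · exact conjOK_get conj1 i (by omega) (by omega)
  by_cases h2 : i < 2100
  · exact conjOK_get conj2 i (by omega) (by omega)
  by_cases h3 : i < 2800
  · exact conjOK_get conj3 i (by omega) (by omega)
  by_cases h4 : i < 3500
  · exact conjOK_get conj4 i (by omega) (by omega)
  by_cases h5 : i < 4200
  · exact conjOK_get conj5 i (by omega) (by omega)
  by_cases h6 : i < 4900
  · exact conjOK_get conj6 i (by omega) (by omega)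
  by_cases h7 : i < 5600
  · exact conjOK_get conj7 i (by omega) (by omega)
  by_cases h8 : i < 6300
  · exact conjOK_get conj8 i (by omega) (by omega)
  by_cases h9 : i < 7000
  · exact conjOK_get conj9 i (by omega) (by omega)
  by_cases h10 : i < 7700
  · exact conjOK_get conj10 i (by omega) (by omega)
  by_cases h11 : i < 8400
  · exact conjOK_get conj11 i (by omega) (by omega)
  by_cases h12 : i < 9100
  · exact conjOK_get conj12 i (by omega) (by omega)
  by_cases h13 : i < 9800
  · exact conjOK_get conj13 i (by omega) (by omega)
  by_cases h14 : i < 10500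
  · exact conjOK_get conj14 i (by omega) (by omega)
  by_cases h15 : i < 11200
  · exact conjOK_get conj15 i (by omega) (by omega)
  by_cases h16 : i < 11900
  · exact conjOK_get conj16 i (by omega) (by omega)
  by_cases h17 : i < 12600
  · exact conjOK_get conj17 i (by omega) (by omega)
  by_cases h18 : i < 13300
  · exact conjOK_get conj18 i (by omega) (by omega)
  by_cases h19 : i < 14000
  · exact conjOK_get conj19 i (by omega) (by omega)
  by_cases h20 : i < 14700
  · exact conjOK_get conj20 i (by omega) (by omega)
  by_cases h21 : i < 15400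
  · exact conjOK_get conj21 i (by omega) (by omega)
  by_cases h22 : i < 16100
  · exact conjOK_get conj22 i (by omega) (by omega)
  by_cases h23 : i < 16800
  · exact conjOK_get conj23 i (by omega) (by omega)
  by_cases h24 : i < 17500
  · exact conjOK_get conj24 i (by omega) (by omega)
  by_cases h25 : i < 18200
  · exact conjOK_get conj25 i (by omega) (by omega)
  by_cases h26 : i < 18900
  · exact conjOK_get conj26 i (by omega) (by omega)
  by_cases h27 : i < 19600
  · exact conjOK_get conj27 i (by omega) (by omega)
  by_cases h28 : i < 20300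
  · exact conjOK_get conj28 i (by omega) (by omega)
  by_cases h29 : i < 21000
  · exact conjOK_get conj29 i (by omega) (by omega)
  by_cases h30 : i < 21700
  · exact conjOK_get conj30 i (by omega) (by omega)
  by_cases h31 : i < 22400
  · exact conjOK_get conj31 i (by omega) (by omega)
  by_cases h32 : i < 23100
  · exact conjOK_get conj32 i (by omega) (by omega)
  by_cases h33 : i < 23800
  · exact conjOK_get conj33 i (by omega) (by omega)
  by_cases h34 : i < 24500
  · exact conjOK_get conj34 i (by omega) (by omega)
  by_cases h35 : i < 25200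
  · exact conjOK_get conj35 i (by omega) (by omega)
  by_cases h36 : i < 25900
  · exact conjOK_get conj36 i (by omega) (by omega)
  by_cases h37 : i < 26600
  · exact conjOK_get conj37 i (by omega) (by omega)
  by_cases h38 : i < 27300
  · exact conjOK_get conj38 i (by omega) (by omega)
  by_cases h39 : i < 28000
  · exact conjOK_get conj39 i (by omega) (by omega)
  by_cases h40 : i < 28700
  · exact conjOK_get conj40 i (by omega) (by omega)
  by_cases h41 : i < 29400
  · exact conjOK_get conj41 i (by omega) (by omega)
  by_cases h42 : i < 30100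
  · exact conjOK_get conj42 i (by omega) (by omega)
  by_cases h43 : i < 30800
  · exact conjOK_get conj43 i (by omega) (by omega)
  by_cases h44 : i < 31500
  · exact conjOK_get conj44 i (by omega) (by omega)
  by_cases h45 : i < 31671
  · exact conjOK_get conj45 i (by omega) (by omega)
  omega

end Cfsg.Lib.CosetEnum.Fi23Trans
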