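import Cfsg.Agent.Lib.CosetEnum.Fi23Centre.Data
import Cfsg.Agent.Lib.CosetEnum.Fi23Fi22.Data

/-!
# A word carrying the central involution of the double cover to a generator
-/

set_option autoImplicit false

namespace Cfsg.Lib.CosetEnum

/-- The word `w` carries the tabulated element to the generator `g`, on a range of points. -/
noncomputable def conjOK (Z T : Tab) (k : Nat) (w : List Nat) (g : Nat) : Nat → Nat → Bool
  | 0, _ => true
  | m + 1, i => force i fun i =>
      Nat.beq (twalk Z k w (T.getP i)) (img Z k g (twalk Z k w i)) && conjOK Z T k w g m (i + 1)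

theorem conjOK_get {Z T : Tab} {k : Nat} {w : List Nat} {g : Nat} : ∀ {m i : Nat},
    conjOK Z T k w g m i = true → ∀ j, i ≤ j → j < i + m →
      twalk Z k w (T.getP j) = img Z k g (twalk Z k w j)
  | 0, i, _, j, h1, h2 => by omega
  | m + 1, i, hc, j, h1, h2 => by
    rw [conjOK, force_eq, Bool.and_eq_true] at hc
    rcases Nat.eq_or_lt_of_le h1 with h | h
    · exact h ▸ Nat.eq_of_beq_eq_true hc.1
    · exact conjOK_get hc.2 j h (by omega)

namespace Fi23Trans

/-- The conjugating word. -/
def word : List Nat :=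
  [7, 6, 5, 4, 3, 2, 1, 0, 8, 3, 2, 4, 3, 5, 4, 6, 5, 7, 6, 8, 3, 2, 4, 3, 5, 4, 8, 3, 2, 1]

end Fi23Trans

end Cfsg.Lib.CosetEnum
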